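/-
The centraliser of a transvection in `SL_{n+2}(2)`.
-/
import Cfsg.Agent.Lib.LargeExtra.Sections
import Cfsg.Agent.Lib.Basic

set_option autoImplicit false
set_option linter.style.haveILetI false

namespace CfsgParab

open Cfsg Matrix

/-- A group that is extraspecial of order `2^(2n+1)` by `GL_n(2)`, split, with centre element `w`. -/
structure Data (C : Type*) [Group C] (w : C) (n : ℕ) : Prop where
  ex : ∃ (f : C →* Matrix.GeneralLinearGroup (Fin n) (ZMod 2)) (σ : Matrix.GeneralLinearGroup (Fin n) (ZMod 2) →* C),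
    (∀ B, f (σ B) = B) ∧ w ∈ f.ker ∧ w ≠ 1 ∧ (∀ c : C, c * w = w * c) ∧ (∀ h ∈ f.ker, h * h = 1 ∨ h * h = w) ∧
    (∀ c : C, (∀ h ∈ f.ker, c * h = h * c) → c = 1 ∨ c = w) ∧ (∃ a ∈ f.ker, ∃ b ∈ f.ker, a * b ≠ b * a) ∧
    Nat.card f.ker = 2 ^ (2 * n + 1) ∧
    ∃ E : Subgroup C, E ≤ f.ker ∧ Cfsg.IsElementaryAbelian 2 E ∧ Nat.card E = 2 ^ (n + 1)

theorem Data.transport {C D : Type*} [Group C] [Group D] {w : C} {w' : D} {n : ℕ} (h : Data C w n) (e : D ≃* C)
    (hw : e w' = w) : Data D w' n := by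
  obtain ⟨f, σ, hs, hwk, hw1, hwc, hsq, hcen, ⟨a, ha, b, hb, hne⟩, hcard, E, hE, ⟨hEc, hE2⟩, hEcard⟩ := h.ex
  refine ⟨⟨f.comp e.toMonoidHom, e.symm.toMonoidHom.comp σ, fun B => ?_, ?_, ?_, ?_, ?_, ?_, ?_, ?_, ?_⟩⟩
  · simp [hs]
  · show f (e w') = 1
    rw [hw]; exact hwk
  · exact fun e' => hw1 (by rw [← hw, e', map_one])
  · exact fun c => e.injective (by rw [map_mul, map_mul, hw, hwc])
  · intro x hx
    rcases hsq (e x) hx with e' | e'
    · exact Or.inl (e.injective (by rw [map_mul, e', map_one]))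
    · exact Or.inr (e.injective (by rw [map_mul, e', hw]))
  · intro c hc
    rcases hcen (e c) (fun x hx => by
      have := congrArg e (hc (e.symm x) (show f (e (e.symm x)) = 1 by rw [e.apply_symm_apply]; exact hx))
      simpa using this) with e' | e'
    · exact Or.inl (e.injective (by rw [e', map_one]))
    · exact Or.inr (e.injective (by rw [e', hw]))
  · refine ⟨e.symm a, show f (e (e.symm a)) = 1 by rw [e.apply_symm_apply]; exact ha,
      e.symm b, show f (e (e.symm b)) = 1 by rw [e.apply_symm_apply]; exact hb, fun e' => hne ?_⟩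
    simpa using congrArg e e'
  · rw [← hcard]
    exact Nat.card_congr
      { toFun := fun x => ⟨e x, x.2⟩
        invFun := fun x => ⟨e.symm x, show f (e (e.symm x)) = 1 by rw [e.apply_symm_apply]; exact x.2⟩
        left_inv := fun x => Subtype.ext (e.symm_apply_apply _)
        right_inv := fun x => Subtype.ext (e.apply_symm_apply _) }
  · refine ⟨E.comap e.toMonoidHom, fun x hx => hE hx, ⟨⟨⟨fun x y => Subtype.ext (e.injective ?_)⟩⟩, fun x hx => e.injective ?_⟩, ?_⟩
    · show e ((x : D) * y) = e ((y : D) * x)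
      rw [map_mul, map_mul]
      exact congrArg Subtype.val (hEc.is_comm.comm ⟨e x, x.2⟩ ⟨e y, y.2⟩)
    · rw [map_pow, map_one]
      exact hE2 _ hx
    · rw [← hEcard]
      exact Nat.card_congr
        { toFun := fun x => ⟨e x, x.2⟩
          invFun := fun x => ⟨e.symm x, show e (e.symm x) ∈ E by rw [e.apply_symm_apply]; exact x.2⟩
          left_inv := fun x => Subtype.ext (e.symm_apply_apply _)
          right_inv := fun x => Subtype.ext (e.apply_symm_apply _) }

/-- Transitivity of `GL_n(2)` on nonzero vectors, by an involution. -/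
theorem move {n : ℕ} {v u : Fin n → ZMod 2} (hv : v ≠ 0) (hu : u ≠ 0) :
    ∃ T : Matrix.GeneralLinearGroup (Fin n) (ZMod 2), (T : Matrix (Fin n) (Fin n) (ZMod 2)) *ᵥ v = u := by
  classical
  have hz : ∀ x : ZMod 2, x = 0 ∨ x = 1 := by decide
  obtain ⟨φ, hφv, hφu⟩ : ∃ φ : Fin n → ZMod 2, φ ⬝ᵥ v = 1 ∧ φ ⬝ᵥ u = 1 := by
    obtain ⟨i, hi⟩ := Function.ne_iff.mp hv
    obtain ⟨j, hj⟩ := Function.ne_iff.mp hu
    have hi' : v i = 1 := (hz (v i)).resolve_left hi
    have hj' : u j = 1 := (hz (u j)).resolve_left hj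
    rcases hz (u i) with e | e
    · rcases hz (v j) with e' | e'
      · exact ⟨Pi.single i 1 + Pi.single j 1, by simp [add_dotProduct, hi', e'], by simp [add_dotProduct, hj', e]⟩
      · exact ⟨Pi.single j 1, by simp [e'], by simp [hj']⟩
    · exact ⟨Pi.single i 1, by simp [hi'], by simp [e]⟩
  let X : Matrix (Fin n) (Fin n) (ZMod 2) := Matrix.vecMulVec (u + v) φ
  have hch : ∀ M : Matrix (Fin n) (Fin n) (ZMod 2), M + M = 0 := fun M => by
    ext i j
    exact (show ∀ x : ZMod 2, x + x = 0 by decide) (M i j)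
  have hXX : X * X = 0 := by
    show Matrix.vecMulVec (u + v) φ * Matrix.vecMulVec (u + v) φ = 0
    rw [Matrix.vecMulVec_mul_vecMulVec, dotProduct_add, hφu, hφv]
    ext i j
    simp [Matrix.vecMulVec, show (1 : ZMod 2) + 1 = 0 by decide]
  have h1 : (1 + X) * (1 + X) = 1 := by
    simp only [add_mul, mul_add, hXX, one_mul, mul_one, add_zero]
    rw [add_assoc, hch, add_zero]
  refine ⟨⟨1 + X, 1 + X, h1, h1⟩, ?_⟩
  show (1 + X) *ᵥ v = u
  rw [Matrix.add_mulVec, Matrix.one_mulVec]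
  ext i
  simp only [X, Matrix.vecMulVec, Matrix.mulVec, dotProduct, Pi.add_apply, Matrix.of_apply, mul_assoc, ← Finset.mul_sum]
  rw [show ∑ j, φ j * v j = 1 from hφv, mul_one, add_comm (u i), ← add_assoc,
    (show ∀ x : ZMod 2, x + x = 0 by decide) (v i), zero_add]

/-- `GL_n(2)` has no nontrivial normal 2-subgroup. -/
theorem gl_two_core {n : ℕ} (P : Subgroup (Matrix.GeneralLinearGroup (Fin n) (ZMod 2))) [hP : P.Normal] (h2 : IsPGroup 2 P) :
    P = ⊥ := by
  classical
  haveI : Fact (Nat.Prime 2) := ⟨Nat.prime_two⟩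
  rcases Nat.eq_zero_or_pos n with rfl | hn
  · exact (Subgroup.eq_bot_iff_forall P).mpr fun x _ => Units.ext (Subsingleton.elim _ _)
  letI : MulAction P (Fin n → ZMod 2) :=
    { smul := fun p v => ((p : Matrix.GeneralLinearGroup (Fin n) (ZMod 2)) : Matrix (Fin n) (Fin n) (ZMod 2)) *ᵥ v
      one_smul := fun v => one_mulVec v
      mul_smul := fun p q v => (mulVec_mulVec _ _ _).symm }
  obtain ⟨v, hv, hv0⟩ := h2.exists_fixed_point_of_prime_dvd_card_of_fixed_point (α := Fin n → ZMod 2)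
    (by
      rw [Nat.card_fun, Nat.card_zmod, Nat.card_fin]
      exact dvd_pow_self 2 hn.ne') (a := 0) (fun p => mulVec_zero _)
  refine (Subgroup.eq_bot_iff_forall P).mpr fun p hp => ?_
  have key : ∀ u : Fin n → ZMod 2, (p : Matrix (Fin n) (Fin n) (ZMod 2)) *ᵥ u = u := by
    intro u
    by_cases hu : u = 0
    · rw [hu, mulVec_zero]
    -- move `v` to `u`
    obtain ⟨T, hT⟩ := move (v := v) (fun h => hv0 h.symm) hu
    have hconj : T⁻¹ * p * T ∈ P := by simpa using hP.conj_mem p hp T⁻¹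
    have h1 : ((T⁻¹ * p * T : Matrix.GeneralLinearGroup (Fin n) (ZMod 2)) : Matrix (Fin n) (Fin n) (ZMod 2)) *ᵥ v = v :=
      hv ⟨_, hconj⟩
    rw [Units.val_mul, Units.val_mul, ← mulVec_mulVec, hT, ← mulVec_mulVec] at h1
    have h2 := congrArg (fun x => (T : Matrix (Fin n) (Fin n) (ZMod 2)) *ᵥ x) h1
    simp only [mulVec_mulVec, ← Matrix.mul_assoc] at h2
    rwa [← Units.val_mul, mul_inv_cancel, Units.val_one, Matrix.one_mul, hT] at h2
  exact Units.ext (Matrix.ext_of_mulVec_single fun i => by rw [key, Units.val_one, one_mulVec])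

section consequences

variable {G : Type*} [Group G] [Finite G] {z : G} {C : Subgroup G} {n : ℕ}

/-- The consequences for a centraliser. -/
theorem conclude (hC : C = Subgroup.centralizer ({z} : Set G)) (hzC : z ∈ C) (hD : Data C (⟨z, hzC⟩ : C) n)
    (Q : Subgroup G) (hQ : Q = (Cfsg.pCore 2 ↥C).map C.subtype) :
    CfsgLargeExtra.ES Q z ∧ (∃ a ∈ Q, ∃ b ∈ Q, a * b ≠ b * a) ∧ Cfsg.IsExtraspecial 2 ↥Q ∧
      Nat.card ↥Q = 2 ^ (2 * n + 1) ∧
      (∃ E : Subgroup G, E ≤ Q ∧ Cfsg.IsElementaryAbelian 2 E ∧ Nat.card ↥E = 2 ^ (n + 1)) ∧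
      ∃ K : Subgroup G, K ≤ C ∧ Q ⊓ K = ⊥ ∧ Q ⊔ K = C ∧
        Nonempty (↥K ≃* Matrix.GeneralLinearGroup (Fin n) (ZMod 2)) := by
  classical
  haveI : Fact (Nat.Prime 2) := ⟨Nat.prime_two⟩
  obtain ⟨f, σ, hs, hwk, hw1, hwc, hsq, hcen, ⟨a, ha, b, hb, hne⟩, hcard, E, hE, ⟨hEc, hE2⟩, hEcard⟩ := hD.ex
  have hf : Function.Surjective f := fun B => ⟨σ B, hs B⟩
  have hzz : z * z = 1 := by
    rcases hsq _ hwk with e | e
    · exact congrArg Subtype.val e
    · exact absurd (mul_eq_left.mp e) hw1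
  have h2 : IsPGroup 2 f.ker := fun x => ⟨2, Subtype.ext (by
    show (x : C) ^ (2 ^ 2) = 1
    rw [show 2 ^ 2 = 2 * 2 from rfl, pow_mul, sq, sq]
    rcases hsq x x.2 with e | e <;> rw [e]
    · rw [one_mul]
    · exact Subtype.ext hzz)⟩
  have hcore : Cfsg.pCore 2 ↥C = f.ker := by
    refine le_antisymm ?_ (CfsgLib.le_pCore h2)
    haveI : ((Cfsg.pCore 2 ↥C).map f).Normal := (inferInstance : (Cfsg.pCore 2 ↥C).Normal).map f hf
    have := gl_two_core _ ((CfsgLib.isPGroup_pCore (G := C) 2).map f)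
    rwa [Subgroup.map_eq_bot_iff] at this
  rw [hcore] at hQ
  have memQ : ∀ {c : C}, (c : G) ∈ Q ↔ c ∈ f.ker := fun {c} => by
    rw [hQ]
    exact ⟨fun ⟨d, hd, e⟩ => (Subtype.ext e : d = c) ▸ hd, fun h => ⟨c, h, rfl⟩⟩
  have memC : ∀ {c : G}, c ∈ C ↔ c * z = z * c := fun {c} => by rw [hC]; exact Subgroup.mem_centralizer_singleton_iff
  have hzQ : z ∈ Q := (memQ (c := ⟨z, hzC⟩)).mpr hwk
  have hQC : Q ≤ C := hQ ▸ Subgroup.map_subtype_le _
  have hES : CfsgLargeExtra.ES Q z := by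
    refine ⟨hzQ, fun e => hw1 (Subtype.ext e), fun q hq => memC.mp (hQC hq), fun q hq => ?_, fun c hc => ?_,
      fun c hc q hq => ?_⟩
    · rcases hsq ⟨q, hQC hq⟩ (memQ.mp hq) with e | e
      · exact Or.inl (congrArg Subtype.val e)
      · exact Or.inr (congrArg Subtype.val e)
    · rcases hcen ⟨c, memC.mpr (hc z hzQ)⟩ (fun x hx => Subtype.ext (hc x (memQ.mpr hx))) with e | e
      · exact Or.inl (congrArg Subtype.val e)
      · exact Or.inr (congrArg Subtype.val e)
    · exact (memQ (c := ⟨c, memC.mpr hc⟩ * ⟨q, hQC hq⟩ * ⟨c, memC.mpr hc⟩⁻¹)).mpr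
        ((MonoidHom.normal_ker f).conj_mem _ ((memQ (c := ⟨q, hQC hq⟩)).mp hq) _)
  have hab : ∃ a ∈ Q, ∃ b ∈ Q, a * b ≠ b * a :=
    ⟨a, memQ.mpr ha, b, memQ.mpr hb, fun e => hne (Subtype.ext e)⟩
  refine ⟨hES, hab, ?_, ?_, ?_, σ.range.map C.subtype, Subgroup.map_subtype_le _, ?_, ?_, ?_⟩
  · obtain ⟨a, ha, b, hb, hne⟩ := hab
    exact CfsgLargeExtra.isExtraspecial_of_ext2 hES.toExt (a := ⟨a, ha⟩) (b := ⟨b, hb⟩)
      fun e => hne (congrArg Subtype.val e)
  · rw [hQ, ← hcard]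
    exact (Nat.card_congr (Subgroup.equivMapOfInjective _ _ C.subtype_injective).toEquiv).symm
  · refine ⟨E.map C.subtype, hQ ▸ Subgroup.map_mono hE, ⟨⟨⟨?_⟩⟩, ?_⟩, ?_⟩
    · rintro ⟨_, x, hx, rfl⟩ ⟨_, y, hy, rfl⟩
      exact Subtype.ext (congrArg (fun t : E => ((t : C) : G)) (hEc.is_comm.comm ⟨x, hx⟩ ⟨y, hy⟩))
    · rintro _ ⟨x, hx, rfl⟩
      rw [← map_pow, hE2 x hx, map_one]
    · rw [← hEcard]
      exact (Nat.card_congr (Subgroup.equivMapOfInjective _ _ C.subtype_injective).toEquiv).symm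
  · refine (Subgroup.eq_bot_iff_forall _).mpr ?_
    rintro _ ⟨hxQ, x, ⟨B, rfl⟩, rfl⟩
    have h1 : f (σ B) = 1 := memQ.mp hxQ
    rw [hs] at h1
    rw [h1, map_one, map_one]
  · refine le_antisymm (sup_le hQC (Subgroup.map_subtype_le _)) fun c hc => ?_
    have e : c = ((⟨c, hc⟩ * (σ (f ⟨c, hc⟩))⁻¹ : C) : G) * (σ (f ⟨c, hc⟩) : G) := by simp
    rw [e]
    refine Subgroup.mul_mem _ (Subgroup.mem_sup_left (memQ.mpr ?_))
      (Subgroup.mem_sup_right ⟨_, ⟨_, rfl⟩, rfl⟩)
    rw [MonoidHom.mem_ker, map_mul, map_inv, hs, mul_inv_cancel]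
  · exact ⟨((MonoidHom.ofInjective (f := C.subtype.comp σ) fun x y e => by
      have := congrArg f (Subtype.ext e : σ x = σ y)
      rwa [hs, hs] at this).trans (MulEquiv.subgroupCongr (MonoidHom.map_range C.subtype σ).symm)).symm⟩

end consequences

section model

variable {n : ℕ}

/-- A matrix in block form for the ordering `0, 1, rest`. -/
def par (c : ZMod 2) (a b : Fin n → ZMod 2) (B : Matrix (Fin n) (Fin n) (ZMod 2)) :
    Matrix (Fin (n + 2)) (Fin (n + 2)) (ZMod 2) :=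
  Matrix.of (Fin.cons (Fin.cons 1 (Fin.cons c a))
    (Fin.cons (Fin.cons 0 (Fin.cons 1 0)) (fun i => Fin.cons 0 (Fin.cons (b i) (B i)))))

@[simp] theorem par00 (c : ZMod 2) (a b : Fin n → ZMod 2) (B : Matrix (Fin n) (Fin n) (ZMod 2)) : par c a b B 0 0 = 1 := rfl
@[simp] theorem par01 (c : ZMod 2) (a b : Fin n → ZMod 2) (B : Matrix (Fin n) (Fin n) (ZMod 2)) : par c a b B 0 1 = c := rfl
@[simp] theorem par0j (c : ZMod 2) (a b : Fin n → ZMod 2) (B : Matrix (Fin n) (Fin n) (ZMod 2)) (j : Fin n) :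
    par c a b B 0 j.succ.succ = a j := rfl
@[simp] theorem par10 (c : ZMod 2) (a b : Fin n → ZMod 2) (B : Matrix (Fin n) (Fin n) (ZMod 2)) : par c a b B 1 0 = 0 := rfl
@[simp] theorem par11 (c : ZMod 2) (a b : Fin n → ZMod 2) (B : Matrix (Fin n) (Fin n) (ZMod 2)) : par c a b B 1 1 = 1 := rfl
@[simp] theorem par1j (c : ZMod 2) (a b : Fin n → ZMod 2) (B : Matrix (Fin n) (Fin n) (ZMod 2)) (j : Fin n) :
    par c a b B 1 j.succ.succ = 0 := rfl
@[simp] theorem pari0 (c : ZMod 2) (a b : Fin n → ZMod 2) (B : Matrix (Fin n) (Fin n) (ZMod 2)) (i : Fin n) :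
    par c a b B i.succ.succ 0 = 0 := rfl
@[simp] theorem pari1 (c : ZMod 2) (a b : Fin n → ZMod 2) (B : Matrix (Fin n) (Fin n) (ZMod 2)) (i : Fin n) :
    par c a b B i.succ.succ 1 = b i := rfl
@[simp] theorem parij (c : ZMod 2) (a b : Fin n → ZMod 2) (B : Matrix (Fin n) (Fin n) (ZMod 2)) (i j : Fin n) :
    par c a b B i.succ.succ j.succ.succ = B i j := rfl

theorem forall_fin2 {P : Fin (n + 2) → Prop} (h0 : P 0) (h1 : P 1) (h2 : ∀ i : Fin n, P i.succ.succ) : ∀ i, P i :=
  fun i => Fin.cases h0 (fun i' => Fin.cases h1 h2 i') i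

theorem ext2 {M N : Matrix (Fin (n + 2)) (Fin (n + 2)) (ZMod 2)} (h00 : M 0 0 = N 0 0) (h01 : M 0 1 = N 0 1)
    (h0j : ∀ j : Fin n, M 0 j.succ.succ = N 0 j.succ.succ) (h10 : M 1 0 = N 1 0) (h11 : M 1 1 = N 1 1)
    (h1j : ∀ j : Fin n, M 1 j.succ.succ = N 1 j.succ.succ) (hi0 : ∀ i : Fin n, M i.succ.succ 0 = N i.succ.succ 0)
    (hi1 : ∀ i : Fin n, M i.succ.succ 1 = N i.succ.succ 1)
    (hij : ∀ i j : Fin n, M i.succ.succ j.succ.succ = N i.succ.succ j.succ.succ) : M = N := by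
  refine Matrix.ext fun i j => ?_
  revert j i
  refine forall_fin2 ?_ ?_ ?_
  · exact forall_fin2 h00 h01 h0j
  · exact forall_fin2 h10 h11 h1j
  · exact fun i => forall_fin2 (hi0 i) (hi1 i) (hij i)

theorem sum2 (f : Fin (n + 2) → ZMod 2) : ∑ k, f k = f 0 + f 1 + ∑ k : Fin n, f k.succ.succ := by
  rw [Fin.sum_univ_succ, Fin.sum_univ_succ, ← add_assoc]
  rfl

theorem par_mul (c c' : ZMod 2) (a a' b b' : Fin n → ZMod 2) (B B' : Matrix (Fin n) (Fin n) (ZMod 2)) :
    par c a b B * par c' a' b' B' = par (c' + c + a ⬝ᵥ b') (a' + a ᵥ* B') (b + B *ᵥ b') (B * B') := by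
  refine ext2 ?_ ?_ ?_ ?_ ?_ ?_ ?_ ?_ ?_ <;> intros <;>
    simp [Matrix.mul_apply, sum2, dotProduct, Matrix.vecMul, Matrix.mulVec]

theorem par_one : par 0 0 0 (1 : Matrix (Fin n) (Fin n) (ZMod 2)) = 1 := by
  refine ext2 ?_ ?_ ?_ ?_ ?_ ?_ ?_ ?_ ?_ <;> intros <;>
    simp [Matrix.one_apply, Fin.succ_ne_zero, (Fin.succ_ne_zero _).symm, Fin.succ_succ_ne_one, (Fin.succ_succ_ne_one _).symm]

theorem par_transvection : par 1 0 0 (1 : Matrix (Fin n) (Fin n) (ZMod 2)) = Matrix.transvection 0 1 1 := by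
  refine ext2 ?_ ?_ ?_ ?_ ?_ ?_ ?_ ?_ ?_ <;> intros <;>
    simp [Matrix.transvection, Matrix.single, Matrix.one_apply, Fin.succ_ne_zero, (Fin.succ_ne_zero _).symm,
      Fin.succ_succ_ne_one, (Fin.succ_succ_ne_one _).symm]

theorem par_inj {c c' : ZMod 2} {a a' b b' : Fin n → ZMod 2} {B B' : Matrix (Fin n) (Fin n) (ZMod 2)}
    (h : par c a b B = par c' a' b' B') : c = c' ∧ a = a' ∧ b = b' ∧ B = B' := by
  refine ⟨?_, funext fun j => ?_, funext fun i => ?_, Matrix.ext fun i j => ?_⟩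
  · simpa using congrFun (congrFun h 0) 1
  · simpa using congrFun (congrFun h 0) j.succ.succ
  · simpa using congrFun (congrFun h i.succ.succ) 1
  · simpa using congrFun (congrFun h i.succ.succ) j.succ.succ

theorem zero_one : ∀ x : ZMod 2, x = 0 ∨ x = 1 := by decide

theorem char_two : ∀ x : ZMod 2, x + x = 0 := by decide

theorem det_eq_one {m : Type*} [Fintype m] [DecidableEq m] {M N : Matrix m m (ZMod 2)} (h : M * N = 1) : M.det = 1 := by
  rcases zero_one M.det with e | e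
  · have := congrArg Matrix.det h
    rw [Matrix.det_mul, e, zero_mul, Matrix.det_one] at this
    exact absurd this zero_ne_one
  · exact e

theorem model (w : Matrix.SpecialLinearGroup (Fin (n + 2)) (ZMod 2))
    (hw : (w : Matrix (Fin (n + 2)) (Fin (n + 2)) (ZMod 2)) = Matrix.transvection 0 1 1) (hn : 1 ≤ n)
    (hwC : w ∈ Subgroup.centralizer ({w} : Set (Matrix.SpecialLinearGroup (Fin (n + 2)) (ZMod 2)))) :
    Data ↥(Subgroup.centralizer ({w} : Set (Matrix.SpecialLinearGroup (Fin (n + 2)) (ZMod 2)))) ⟨w, hwC⟩ n ∧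
      ∀ g : ↥(Subgroup.centralizer ({w} : Set (Matrix.SpecialLinearGroup (Fin (n + 2)) (ZMod 2)))),
        (∃ c a b, (((g : Matrix.SpecialLinearGroup (Fin (n + 2)) (ZMod 2))) : Matrix (Fin (n + 2)) (Fin (n + 2)) (ZMod 2)) = par c a b 1) →
          g ∈ Cfsg.pCore 2 ↥(Subgroup.centralizer ({w} : Set (Matrix.SpecialLinearGroup (Fin (n + 2)) (ZMod 2)))) := by
  classical
  set C := Subgroup.centralizer ({w} : Set (Matrix.SpecialLinearGroup (Fin (n + 2)) (ZMod 2))) with hCdef
  have hw' : (w : Matrix (Fin (n + 2)) (Fin (n + 2)) (ZMod 2)) = par 1 0 0 1 := by rw [hw, par_transvection]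
  let mat : C → Matrix (Fin (n + 2)) (Fin (n + 2)) (ZMod 2) := fun g => ((g : Matrix.SpecialLinearGroup (Fin (n + 2)) (ZMod 2)) : Matrix (Fin (n + 2)) (Fin (n + 2)) (ZMod 2))
  have mext : ∀ {g h : C}, mat g = mat h → g = h := fun {g h} e => Subtype.ext (Subtype.ext e)
  have mmul : ∀ g h : C, mat (g * h) = mat g * mat h := fun g h => rfl
  -- every element has block form
  let cc : C → ZMod 2 := fun g => mat g 0 1
  let aa : C → Fin n → ZMod 2 := fun g j => mat g 0 j.succ.succ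
  let bb : C → Fin n → ZMod 2 := fun g i => mat g i.succ.succ 1
  let BB : C → Matrix (Fin n) (Fin n) (ZMod 2) := fun g => Matrix.of fun i j => mat g i.succ.succ j.succ.succ
  have hform : ∀ g : C, mat g = par (cc g) (aa g) (bb g) (BB g) := by
    intro g
    have h : mat g * Matrix.transvection (0 : Fin (n + 2)) 1 1 = Matrix.transvection (0 : Fin (n + 2)) 1 1 * mat g := by
      have := congrArg (fun t : Matrix.SpecialLinearGroup (Fin (n + 2)) (ZMod 2) => (t : Matrix (Fin (n + 2)) (Fin (n + 2)) (ZMod 2)))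
        (Subgroup.mem_centralizer_singleton_iff.mp g.2)
      simpa [hw] using this
    have hcol : ∀ i : Fin (n + 2), i ≠ 0 → mat g i 0 = 0 := by
      intro i hi
      have := congrFun (congrFun h i) 1
      rw [Matrix.mul_transvection_apply_same, Matrix.transvection_mul_apply_of_ne (ha := hi), one_mul] at this
      simpa using this
    have hrow : ∀ j : Fin (n + 2), j ≠ 1 → mat g 1 j = 0 := by
      intro j hj
      have := congrFun (congrFun h 0) j
      rw [Matrix.transvection_mul_apply_same, Matrix.mul_transvection_apply_of_ne (hb := hj), one_mul] at this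
      simpa using this.symm
    have h01 := congrFun (congrFun h 0) 1
    rw [Matrix.mul_transvection_apply_same, Matrix.transvection_mul_apply_same, one_mul, one_mul] at h01
    have h11 : mat g 1 1 = 1 := by
      rcases zero_one (mat g 1 1) with e | e
      · exfalso
        have hdet : (mat g).det = 1 := g.1.2
        rw [Matrix.det_eq_zero_of_row_eq_zero (1 : Fin (n + 2)) (fun j => by
          by_cases hj : j = 1
          · rw [hj, e]
          · exact hrow j hj)] at hdet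
        exact zero_ne_one hdet
      · exact e
    have h00 : mat g 0 0 = 1 := by rw [← h11]; exact add_left_cancel h01
    refine ext2 (by simpa using h00) ?_ ?_ ?_ (by simpa using h11) ?_ ?_ ?_ ?_ <;> intros <;>
      first
      | rfl
      | (simp only [par10, pari0, par1j]; first | exact hcol _ (by simp [Fin.succ_ne_zero]) | exact hrow _ (by simp [Fin.succ_succ_ne_one]))
  -- the projection
  have hBBmul : ∀ g h : C, BB (g * h) = BB g * BB h := fun g h => by
    have := hform (g * h)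
    rw [mmul, hform g, hform h, par_mul] at this
    exact (par_inj this).2.2.2.symm
  have hBB1 : BB 1 = 1 := by
    have := hform 1
    rw [show mat 1 = 1 from rfl, ← par_one] at this
    exact (par_inj this).2.2.2.symm
  let f : C →* Matrix.GeneralLinearGroup (Fin n) (ZMod 2) :=
    ({ toFun := BB, map_one' := hBB1, map_mul' := hBBmul } : C →* Matrix (Fin n) (Fin n) (ZMod 2)).toHomUnits
  have hfv : ∀ g, (f g : Matrix (Fin n) (Fin n) (ZMod 2)) = BB g := fun g => rfl
  -- elements from blocks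
  have mk : ∀ (c : ZMod 2) (a b : Fin n → ZMod 2) (B N : Matrix (Fin n) (Fin n) (ZMod 2)), B * N = 1 →
      ∃ g : C, mat g = par c a b B := by
    intro c a b B N hBN
    have hunit : IsUnit B := IsUnit.of_mul_eq_one N hBN
    have hdet : (par c a b B).det = 1 := by
      refine det_eq_one (N := par (c + (a ᵥ* N) ⬝ᵥ b) (a ᵥ* N) (N *ᵥ b) N) ?_
      rw [par_mul, ← par_one, hBN]
      congr 1
      · rw [Matrix.dotProduct_mulVec]
        generalize a ᵥ* N ⬝ᵥ b = t
        revert t c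
        decide
      · ext j; exact char_two _
      · rw [Matrix.mulVec_mulVec, hBN, Matrix.one_mulVec]; ext j; exact char_two _
    refine ⟨⟨⟨par c a b B, hdet⟩, Subgroup.mem_centralizer_singleton_iff.mpr (Subtype.ext ?_)⟩, rfl⟩
    show par c a b B * (w : Matrix _ _ (ZMod 2)) = (w : Matrix _ _ (ZMod 2)) * par c a b B
    rw [hw', par_mul, par_mul]
    simp [add_comm]
  let σ : Matrix.GeneralLinearGroup (Fin n) (ZMod 2) →* C :=
    { toFun := fun B => (mk 0 0 0 (B : Matrix (Fin n) (Fin n) (ZMod 2)) _ B.mul_inv).choose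
      map_one' := mext (by
        rw [(mk 0 0 0 _ _ (1 : Matrix.GeneralLinearGroup (Fin n) (ZMod 2)).mul_inv).choose_spec, Units.val_one, par_one]
        rfl)
      map_mul' := fun B B' => mext (by
        rw [mmul, (mk 0 0 0 _ _ (B * B').mul_inv).choose_spec, (mk 0 0 0 _ _ B.mul_inv).choose_spec,
          (mk 0 0 0 _ _ B'.mul_inv).choose_spec, par_mul, Units.val_mul]
        simp) }
  have hσ : ∀ B : Matrix.GeneralLinearGroup (Fin n) (ZMod 2), mat (σ B) = par 0 0 0 (B : Matrix (Fin n) (Fin n) (ZMod 2)) :=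
    fun B => (mk 0 0 0 (B : Matrix (Fin n) (Fin n) (ZMod 2)) _ B.mul_inv).choose_spec
  have hker : ∀ {g : C}, g ∈ f.ker ↔ BB g = 1 := fun {g} => by
    rw [MonoidHom.mem_ker, Units.ext_iff, hfv, Units.val_one]
  have hwf : BB ⟨w, hwC⟩ = 1 := (par_inj ((hform ⟨w, hwC⟩).symm.trans hw')).2.2.2
  let el : ∀ (c : ZMod 2) (a b : Fin n → ZMod 2), C := fun c a b => (mk c a b 1 1 (one_mul 1)).choose
  have hel : ∀ c a b, mat (el c a b) = par c a b 1 := fun c a b => (mk c a b 1 1 (one_mul 1)).choose_spec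
  have helk : ∀ c a b, el c a b ∈ f.ker := fun c a b => hker.mpr (par_inj ((hform _).symm.trans (hel c a b))).2.2.2
  have hsq4 : ∀ g ∈ f.ker, g ^ (2 ^ 2) = 1 := by
    intro g hg
    have hsq : mat (g * g) = par (aa g ⬝ᵥ bb g) 0 0 1 := by
      rw [mmul, hform g, par_mul, hker.mp hg, mul_one]
      congr 1
      · rw [char_two, zero_add]
      · rw [Matrix.vecMul_one]; ext j; exact char_two _
      · rw [Matrix.one_mulVec]; ext j; exact char_two _
    refine mext ?_
    rw [show 2 ^ 2 = 2 * 2 from rfl, pow_mul, sq, sq, mmul, hsq, par_mul, show mat 1 = 1 from rfl, ← par_one]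
    simp [char_two]
  refine ⟨⟨⟨f, σ, fun B => Units.ext ?_, hker.mpr hwf, ?_, ?_, ?_, ?_, ?_, ?_, ?_⟩⟩, fun g ⟨c, a, b, e⟩ =>
    CfsgLib.le_pCore (N := f.ker) (fun x => ⟨2, Subtype.ext (hsq4 x x.2)⟩) (hker.mpr (par_inj ((hform g).symm.trans e)).2.2.2)⟩
  · rw [hfv]; exact (par_inj ((hform _).symm.trans (hσ B))).2.2.2
  · intro e
    have := congrArg mat e
    rw [show mat ⟨w, hwC⟩ = par 1 0 0 1 from hw', show mat 1 = 1 from rfl, ← par_one] at this
    exact one_ne_zero (par_inj this).1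
  · exact fun g => Subtype.ext (Subgroup.mem_centralizer_singleton_iff.mp g.2)
  · intro g hg
    have hsq : mat (g * g) = par (aa g ⬝ᵥ bb g) 0 0 1 := by
      rw [mmul, hform g, par_mul, hker.mp hg, mul_one]
      congr 1
      · rw [char_two, zero_add]
      · rw [Matrix.vecMul_one]; ext j; exact char_two _
      · rw [Matrix.one_mulVec]; ext j; exact char_two _
    rcases zero_one (aa g ⬝ᵥ bb g) with e | e <;> rw [e] at hsq
    · exact Or.inl (mext (hsq.trans par_one))
    · exact Or.inr (mext (hsq.trans hw'.symm))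
  · intro g hg
    have key : ∀ a' b', par (cc g) (aa g) (bb g) (BB g) * par 0 a' b' 1 = par 0 a' b' 1 * par (cc g) (aa g) (bb g) (BB g) := by
      intro a' b'
      have := congrArg mat (hg _ (helk 0 a' b'))
      rwa [mmul, mmul, hel, hform g] at this
    simp only [par_mul] at key
    have hb0 : bb g = 0 := funext fun j => by
      have := (par_inj (key (Pi.single j 1) 0)).1
      simpa using this
    have hB : BB g = 1 := Matrix.ext fun i j => by
      have := congrFun (par_inj (key (Pi.single i 1) 0)).2.1 j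
      simp [Matrix.vecMul, single_dotProduct] at this
      rw [Matrix.one_apply]
      rw [Pi.single_apply] at this
      revert this
      generalize BB g i j = t
      generalize aa g j = s
      by_cases hij : i = j
      · subst hij; rcases zero_one t with rfl | rfl <;> rcases zero_one s with rfl | rfl <;> simp <;> decide
      · rcases zero_one t with rfl | rfl <;> rcases zero_one s with rfl | rfl <;> simp [hij, Ne.symm hij] <;> decide
    have ha0 : aa g = 0 := funext fun j => by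
      have := (par_inj (key 0 (Pi.single j 1))).1
      simpa using this
    have hm := hform g
    rw [hb0, hB, ha0] at hm
    rcases zero_one (cc g) with e | e <;> rw [e] at hm
    · exact Or.inl (mext (hm.trans par_one))
    · exact Or.inr (mext (hm.trans hw'.symm))
  · refine ⟨el 0 (Pi.single ⟨0, hn⟩ 1) 0, helk _ _ _, el 0 0 (Pi.single ⟨0, hn⟩ 1), helk _ _ _, fun e => ?_⟩
    have := congrArg mat e
    rw [mmul, mmul, hel, hel, par_mul, par_mul] at this
    have := (par_inj this).1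
    simp at this
  · rw [Nat.card_eq_of_bijective (fun p : ZMod 2 × (Fin n → ZMod 2) × (Fin n → ZMod 2) => (⟨el p.1 p.2.1 p.2.2, helk _ _ _⟩ : f.ker))
      ⟨fun p q e => by
        have := congrArg (fun t : f.ker => mat t) e
        simp only [hel] at this
        obtain ⟨h1, h2, h3, -⟩ := par_inj this
        exact Prod.ext h1 (Prod.ext h2 h3),
       fun g => ⟨(cc g, aa g, bb g), Subtype.ext (mext (by rw [hel, ← hker.mp g.2, ← hform]))⟩⟩ |>.symm]
    rw [Nat.card_prod, Nat.card_prod, Nat.card_fun, Nat.card_zmod, Nat.card_fin]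
    ring
  · let E : Subgroup C :=
      { carrier := {g | BB g = 1 ∧ bb g = 0}
        one_mem' := by
          refine ⟨hBB1, ?_⟩
          have := hform 1
          rw [show mat 1 = 1 from rfl, ← par_one] at this
          exact (par_inj this).2.2.1.symm
        mul_mem' := fun {g h} hg hh => by
          have := hform (g * h)
          rw [mmul, hform g, hform h, par_mul, hg.1, hh.1, hg.2, hh.2] at this
          obtain ⟨-, -, h3, h4⟩ := par_inj this
          exact ⟨by rw [← h4, mul_one], by rw [← h3]; simp⟩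
        inv_mem' := fun {g} hg => by
          have h1 := hform (g⁻¹ * g)
          rw [mmul, hform g⁻¹, hform g, par_mul, hg.1, hg.2, inv_mul_cancel, ← hform, show mat 1 = 1 from rfl, ← par_one] at h1
          obtain ⟨-, -, h3, h4⟩ := par_inj h1
          refine ⟨by rwa [mul_one] at h4, ?_⟩
          simpa using h3 }
    have hexp : ∀ g ∈ E, ∀ h ∈ E, mat (g * h) = par (cc h + cc g) (aa h + aa g) 0 1 := fun g hg h hh => by
      rw [mmul, hform g, hform h, par_mul, hg.1, hh.1, hg.2, hh.2]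
      simp
    refine ⟨E, fun g hg => hker.mpr hg.1, ⟨⟨⟨fun g h => Subtype.ext (mext ?_)⟩⟩, fun g hg => mext ?_⟩, ?_⟩
    · show mat ((g : C) * h) = mat ((h : C) * g)
      rw [hexp _ g.2 _ h.2, hexp _ h.2 _ g.2, add_comm (cc h.1), add_comm (aa h.1)]
    · rw [sq, hexp g hg g hg, char_two]
      rw [show mat 1 = 1 from rfl, ← par_one]
      congr 1
      ext j; exact char_two _
    · rw [Nat.card_eq_of_bijective (fun p : ZMod 2 × (Fin n → ZMod 2) =>
          (⟨el p.1 p.2 0, (hker.mp (helk _ _ _)), (par_inj ((hform _).symm.trans (hel p.1 p.2 0))).2.2.1⟩ : E))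
        ⟨fun p q e => by
          have := congrArg (fun t : E => mat t) e
          simp only [hel] at this
          obtain ⟨h1, h2, -, -⟩ := par_inj this
          exact Prod.ext h1 h2,
         fun g => ⟨(cc g, aa g), Subtype.ext (mext (by rw [hel, ← g.2.2, ← g.2.1, ← hform]))⟩⟩ |>.symm]
      rw [Nat.card_prod, Nat.card_fun, Nat.card_zmod, Nat.card_fin]
      ring

/-- `GL_n(2) = SL_n(2)`. -/
theorem gl_equiv_sl : Nonempty (Matrix.GeneralLinearGroup (Fin n) (ZMod 2) ≃* Matrix.SpecialLinearGroup (Fin n) (ZMod 2)) :=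
  ⟨{ toFun := fun B => ⟨B, det_eq_one B.mul_inv⟩
     invFun := fun B => Matrix.SpecialLinearGroup.toGL B
     left_inv := fun B => Units.ext rfl
     right_inv := fun B => Subtype.ext rfl
     map_mul' := fun B B' => Subtype.ext rfl }⟩

theorem sl_result (n : ℕ) (hn : 2 ≤ n) (z : Matrix.SpecialLinearGroup (Fin (n + 2)) (ZMod 2))
    (hz : (z : Matrix (Fin (n + 2)) (Fin (n + 2)) (ZMod 2)) = Matrix.transvection 0 1 1)
    {C : Subgroup (Matrix.SpecialLinearGroup (Fin (n + 2)) (ZMod 2))}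
    (hC : C = Subgroup.centralizer ({z} : Set (Matrix.SpecialLinearGroup (Fin (n + 2)) (ZMod 2))))
    (Q : Subgroup (Matrix.SpecialLinearGroup (Fin (n + 2)) (ZMod 2))) (hQ : Q = (Cfsg.pCore 2 ↥C).map C.subtype) :
    Cfsg.IsExtraspecial 2 ↥Q ∧ Nat.card ↥Q = 2 ^ (2 * n + 1) ∧
      (∃ E : Subgroup (Matrix.SpecialLinearGroup (Fin (n + 2)) (ZMod 2)), E ≤ Q ∧ Cfsg.IsElementaryAbelian 2 E ∧
        Nat.card ↥E = 2 ^ (n + 1)) ∧
      Cfsg.IsLargeExtraspecial Q ∧ ∃ K : Subgroup (Matrix.SpecialLinearGroup (Fin (n + 2)) (ZMod 2)), K ≤ C ∧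
        Q ⊓ K = ⊥ ∧ Q ⊔ K = C ∧ Nonempty (↥K ≃* Matrix.SpecialLinearGroup (Fin n) (ZMod 2)) := by
  classical
  have hzC : z ∈ C := by rw [hC]; exact Subgroup.mem_centralizer_singleton_iff.mpr rfl
  subst hC
  obtain ⟨hD, hcore⟩ := model z hz (by omega) hzC
  obtain ⟨hES, hab, hE, hcard, hEl, K, hK1, hK2, hK3, ⟨e⟩⟩ := conclude rfl hzC hD Q hQ
  obtain ⟨e'⟩ := gl_equiv_sl (n := n)
  refine ⟨hE, hcard, hEl, ?_, K, hK1, hK2, hK3, ⟨e.trans e'⟩⟩
  let j : Fin n := ⟨0, by omega⟩
  have h8 : 8 < Nat.card Q := by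
    rw [hcard]
    calc 8 = 2 ^ 3 := by norm_num
      _ < 2 ^ (2 * n + 1) := Nat.pow_lt_pow_right (by norm_num) (by omega)
  let T : Matrix.SpecialLinearGroup (Fin (n + 2)) (ZMod 2) :=
    ⟨Matrix.transvection (1 : Fin (n + 2)) j.succ.succ 1,
      Matrix.det_transvection_of_ne _ _ (Fin.succ_succ_ne_one j).symm _⟩
  let v : Matrix.SpecialLinearGroup (Fin (n + 2)) (ZMod 2) := T * z * T⁻¹
  have hTT : T * T = 1 := Subtype.ext (by
    show Matrix.transvection (1 : Fin (n + 2)) j.succ.succ (1 : ZMod 2) * Matrix.transvection (1 : Fin (n + 2)) j.succ.succ 1 = 1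
    rw [Matrix.transvection_mul_transvection_same (h := (Fin.succ_succ_ne_one j).symm), char_two, Matrix.transvection_zero])
  have hv : (v : Matrix (Fin (n + 2)) (Fin (n + 2)) (ZMod 2)) = par 1 (Pi.single j 1) 0 1 := by
    show ((T * z * T⁻¹ : Matrix.SpecialLinearGroup (Fin (n + 2)) (ZMod 2)) : Matrix (Fin (n + 2)) (Fin (n + 2)) (ZMod 2)) = _
    rw [inv_eq_of_mul_eq_one_right hTT]
    show Matrix.transvection (1 : Fin (n + 2)) j.succ.succ (1 : ZMod 2) * (z : Matrix _ _ (ZMod 2)) *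
      Matrix.transvection (1 : Fin (n + 2)) j.succ.succ 1 = _
    rw [hz]
    simp only [Matrix.transvection, Matrix.add_mul, Matrix.mul_add, Matrix.one_mul, Matrix.mul_one]
    refine ext2 ?_ ?_ ?_ ?_ ?_ ?_ ?_ ?_ ?_ <;> intros <;>
      simp [Matrix.single, Matrix.mul_apply, Matrix.one_apply, sum2, Fin.succ_ne_zero, (Fin.succ_ne_zero _).symm,
        Fin.succ_succ_ne_one, (Fin.succ_succ_ne_one _).symm, Pi.single_apply, char_two, eq_comm]
  refine CfsgLargeExtra.large_of_ES hES hab h8 T ?_ ?_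
  · have hvC : v ∈ Subgroup.centralizer ({z} : Set (Matrix.SpecialLinearGroup (Fin (n + 2)) (ZMod 2))) := by
      refine Subgroup.mem_centralizer_singleton_iff.mpr (Subtype.ext ?_)
      show (v : Matrix (Fin (n + 2)) (Fin (n + 2)) (ZMod 2)) * (z : Matrix (Fin (n + 2)) (Fin (n + 2)) (ZMod 2)) =
        (z : Matrix (Fin (n + 2)) (Fin (n + 2)) (ZMod 2)) * (v : Matrix (Fin (n + 2)) (Fin (n + 2)) (ZMod 2))
      rw [hv, hz, ← par_transvection, par_mul, par_mul]
      simp
    have hvQ : v ∈ Q := by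
      rw [hQ]
      exact ⟨⟨v, hvC⟩, hcore ⟨v, hvC⟩ ⟨1, Pi.single j 1, 0, hv⟩, rfl⟩
    exact hvQ
  · intro e
    have := congrArg (fun t : Matrix.SpecialLinearGroup (Fin (n + 2)) (ZMod 2) => (t : Matrix (Fin (n + 2)) (Fin (n + 2)) (ZMod 2))) e
    change (v : Matrix (Fin (n + 2)) (Fin (n + 2)) (ZMod 2)) = (z : Matrix (Fin (n + 2)) (Fin (n + 2)) (ZMod 2)) at this
    rw [hv, hz, ← par_transvection] at this
    have := congrFun (par_inj this).2.1 j
    simp at this

end model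

end CfsgParab
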