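/-
The holomorph of an elementary abelian 2-group inside `SL_{n+2}(2)`.
-/
import Cfsg.Agent.Lib.Parab.Model
import Cfsg.Agent.Lib.ThreeTrans.Strong

set_option autoImplicit false
set_option linter.style.haveILetI false

namespace CfsgParab

open Cfsg Matrix

variable {n : ℕ}

/-- An affine matrix: the affine coordinate is `1`. -/
def aff (A : Matrix (Fin (n + 1)) (Fin (n + 1)) (ZMod 2)) (v : Fin (n + 1) → ZMod 2) :
    Matrix (Fin (n + 2)) (Fin (n + 2)) (ZMod 2) :=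
  Matrix.of (Fin.insertNth (α := fun _ => Fin (n + 2) → ZMod 2) 1 (Fin.insertNth (α := fun _ => ZMod 2) 1 1 0)
    (fun i => Fin.insertNth (α := fun _ => ZMod 2) 1 (v i) (A i)))

@[simp] theorem aff11 (A : Matrix (Fin (n + 1)) (Fin (n + 1)) (ZMod 2)) (v : Fin (n + 1) → ZMod 2) : aff A v 1 1 = 1 := by
  simp [aff]

@[simp] theorem aff1j (A : Matrix (Fin (n + 1)) (Fin (n + 1)) (ZMod 2)) (v : Fin (n + 1) → ZMod 2) (j : Fin (n + 1)) :
    aff A v 1 (Fin.succAbove 1 j) = 0 := by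
  simp [aff]

@[simp] theorem affi1 (A : Matrix (Fin (n + 1)) (Fin (n + 1)) (ZMod 2)) (v : Fin (n + 1) → ZMod 2) (i : Fin (n + 1)) :
    aff A v (Fin.succAbove 1 i) 1 = v i := by
  simp [aff]

@[simp] theorem affij (A : Matrix (Fin (n + 1)) (Fin (n + 1)) (ZMod 2)) (v : Fin (n + 1) → ZMod 2) (i j : Fin (n + 1)) :
    aff A v (Fin.succAbove 1 i) (Fin.succAbove 1 j) = A i j := by
  simp [aff]

theorem forall_fin1 {P : Fin (n + 2) → Prop} (h1 : P 1) (h : ∀ i : Fin (n + 1), P (Fin.succAbove 1 i)) : ∀ i, P i :=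
  (Fin.forall_iff_succAbove 1).mpr ⟨h1, h⟩

theorem aff_mul (A B : Matrix (Fin (n + 1)) (Fin (n + 1)) (ZMod 2)) (v w : Fin (n + 1) → ZMod 2) :
    aff A v * aff B w = aff (A * B) (v + A *ᵥ w) := by
  refine Matrix.ext (forall_fin1 (forall_fin1 ?_ fun j => ?_) fun i => forall_fin1 ?_ fun j => ?_) <;>
    simp [Matrix.mul_apply, Fin.sum_univ_succAbove _ (1 : Fin (n + 2)), Matrix.mulVec, dotProduct]

theorem aff_one : aff (1 : Matrix (Fin (n + 1)) (Fin (n + 1)) (ZMod 2)) 0 = 1 := by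
  refine Matrix.ext (forall_fin1 (forall_fin1 ?_ fun j => ?_) fun i => forall_fin1 ?_ fun j => ?_) <;>
    simp [Matrix.one_apply, Fin.succAbove_right_inj, Fin.succAbove_ne, (Fin.succAbove_ne _ _).symm]

theorem aff_inj {A B : Matrix (Fin (n + 1)) (Fin (n + 1)) (ZMod 2)} {v w : Fin (n + 1) → ZMod 2}
    (h : aff A v = aff B w) : A = B ∧ v = w := by
  refine ⟨Matrix.ext fun i j => ?_, funext fun i => ?_⟩
  · simpa using congrFun (congrFun h (Fin.succAbove 1 i)) (Fin.succAbove 1 j)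
  · simpa using congrFun (congrFun h (Fin.succAbove 1 i)) 1

theorem eq_aff {N : Matrix (Fin (n + 2)) (Fin (n + 2)) (ZMod 2)} (h1 : N 1 1 = 1)
    (h : ∀ j : Fin (n + 1), N 1 (Fin.succAbove 1 j) = 0) :
    N = aff (Matrix.of fun i j => N (Fin.succAbove 1 i) (Fin.succAbove 1 j)) (fun i => N (Fin.succAbove 1 i) 1) := by
  refine Matrix.ext (forall_fin1 (forall_fin1 ?_ fun j => ?_) fun i => forall_fin1 ?_ fun j => ?_) <;> simp [h1, h]

theorem aff_transvection :
    aff (1 : Matrix (Fin (n + 1)) (Fin (n + 1)) (ZMod 2)) (Pi.single 0 1) = Matrix.transvection 0 1 1 := by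
  have h0 : Fin.succAbove (1 : Fin (n + 2)) 0 = 0 := by simp
  refine Matrix.ext (forall_fin1 (forall_fin1 ?_ fun j => ?_) fun i => forall_fin1 ?_ fun j => ?_)
  · simp [Matrix.transvection, Matrix.single, Matrix.one_apply]
  · simp [Matrix.transvection, Matrix.single, Matrix.one_apply, (Fin.succAbove_ne _ _).symm]
  · rw [affi1, Matrix.transvection, Matrix.add_apply, Matrix.one_apply_ne (Fin.succAbove_ne _ _), zero_add, Matrix.single_apply,
      Pi.single_apply]
    by_cases hi : i = 0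
    · subst hi; simp
    · rw [if_neg hi, if_neg fun e => hi (Fin.succAbove_right_injective (e.1.symm.trans h0.symm))]
  · rw [affij, Matrix.transvection, Matrix.add_apply, Matrix.single_apply, if_neg fun e => Fin.succAbove_ne _ _ e.2.symm,
      add_zero, Matrix.one_apply, Matrix.one_apply]
    simp [Fin.succAbove_right_inj]

theorem card_linear {V : Type*} [AddCommGroup V] [Finite V] (h : ∀ v : V, 2 • v = 0) (hcard : Nat.card V = 2 ^ (n + 1))
    {v0 : V} (hv0 : v0 ≠ 0) : ∃ φ : V ≃+ (Fin (n + 1) → ZMod 2), φ v0 = Pi.single 0 1 := by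
  classical
  letI : Module (ZMod 2) V := AddCommGroup.zmodModule h
  haveI : Fact (Nat.Prime 2) := ⟨Nat.prime_two⟩
  have hr : Module.finrank (ZMod 2) V = n + 1 := by
    have := Module.natCard_eq_pow_finrank (K := ZMod 2) (V := V)
    rw [Nat.card_zmod, hcard] at this
    exact (Nat.pow_right_injective le_rfl this).symm
  have e : V ≃ₗ[ZMod 2] (Fin (n + 1) → ZMod 2) :=
    LinearEquiv.ofFinrankEq _ _ (by rw [hr, Module.finrank_fintype_fun_eq_card, Fintype.card_fin])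
  obtain ⟨T, hT⟩ := move (v := e v0) (u := (Pi.single 0 1 : Fin (n + 1) → ZMod 2)) (fun h' => hv0 (e.injective (by rw [h', map_zero])))
    (fun h' => (one_ne_zero : (1 : ZMod 2) ≠ 0) (by simpa using congrFun h' 0))
  refine ⟨e.toAddEquiv.trans
    { toFun := fun x => (T : Matrix (Fin (n + 1)) (Fin (n + 1)) (ZMod 2)) *ᵥ x
      invFun := fun x => ((T⁻¹ : Matrix.GeneralLinearGroup (Fin (n + 1)) (ZMod 2)) : Matrix (Fin (n + 1)) (Fin (n + 1)) (ZMod 2)) *ᵥ x
      left_inv := fun x => ?_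
      right_inv := fun x => ?_
      map_add' := fun x y => Matrix.mulVec_add _ _ _ }, hT⟩
  · show (↑T⁻¹ : Matrix (Fin (n + 1)) (Fin (n + 1)) (ZMod 2)) *ᵥ ((T : Matrix (Fin (n + 1)) (Fin (n + 1)) (ZMod 2)) *ᵥ x) = x
    rw [Matrix.mulVec_mulVec, ← Units.val_mul, inv_mul_cancel, Units.val_one, Matrix.one_mulVec]
  · show (T : Matrix (Fin (n + 1)) (Fin (n + 1)) (ZMod 2)) *ᵥ ((↑T⁻¹ : Matrix (Fin (n + 1)) (Fin (n + 1)) (ZMod 2)) *ᵥ x) = x
    rw [Matrix.mulVec_mulVec, ← Units.val_mul, mul_inv_cancel, Units.val_one, Matrix.one_mulVec]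

variable {G : Type*} [Group G] [Finite G]

/-- The affine representation of the holomorph, all of the affine group. -/
theorem affine_rep (U M : Subgroup G) [U.Normal] (hU : Cfsg.IsElementaryAbelian 2 U) (hUcard : Nat.card ↥U = 2 ^ (n + 1))
    (hUM : U ⊓ M = ⊥) (hUM' : U ⊔ M = ⊤) (hfaith : ∀ m ∈ M, (∀ u ∈ U, m * u * m⁻¹ = u) → m = 1)
    (hfull : ∀ φ : ↥U ≃* ↥U, ∃ m ∈ M, ∀ u : ↥U, ((φ u : ↥U) : G) = m * u * m⁻¹) {z : G} (hz : z ∈ U) (hz1 : z ≠ 1) :
    ∃ ψ : G →* Matrix.SpecialLinearGroup (Fin (n + 2)) (ZMod 2), Function.Injective ψ ∧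
      (ψ z : Matrix (Fin (n + 2)) (Fin (n + 2)) (ZMod 2)) = Matrix.transvection 0 1 1 ∧
      ∀ N : Matrix.SpecialLinearGroup (Fin (n + 2)) (ZMod 2), N * ψ z = ψ z * N → N ∈ ψ.range := by
  classical
  obtain ⟨hUc, hU2⟩ := hU
  haveI := hUc
  letI : CommGroup ↥U := { (inferInstance : Group ↥U) with mul_comm := hUc.is_comm.comm }
  have h2 : ∀ v : Additive ↥U, 2 • v = 0 := fun v => by
    show Additive.ofMul (v.toMul ^ 2) = 0
    exact (congrArg Additive.ofMul (Subtype.ext (hU2 _ v.toMul.2) : v.toMul ^ 2 = 1)).trans ofMul_one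
  obtain ⟨φ, hφ⟩ := card_linear (n := n) h2 (by rw [Nat.card_congr Additive.toMul]; exact hUcard)
    (v0 := Additive.ofMul (⟨z, hz⟩ : ↥U)) (fun e => hz1 (congrArg Subtype.val (Additive.ofMul.injective e : (⟨z, hz⟩ : ↥U) = 1)))
  -- conjugation
  let cj : G → ↥U → ↥U := fun g u => ⟨g * u * g⁻¹, ‹U.Normal›.conj_mem _ u.2 g⟩
  let L : G → (Fin (n + 1) → ZMod 2) →+ (Fin (n + 1) → ZMod 2) := fun g =>
    AddMonoidHom.mk' (fun x => φ (Additive.ofMul (cj g (φ.symm x).toMul))) fun x y => by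
      rw [← map_add, ← ofMul_mul]
      congr 2
      rw [map_add, toMul_add]
      exact Subtype.ext (by simp [cj, mul_assoc])
  let AA : G → Matrix (Fin (n + 1)) (Fin (n + 1)) (ZMod 2) := fun g => LinearMap.toMatrix' ((L g).toZModLinearMap 2)
  have hAA : ∀ g x, AA g *ᵥ x = φ (Additive.ofMul (cj g (φ.symm x).toMul)) := fun g x => by
    rw [show AA g *ᵥ x = Matrix.toLin' (AA g) x from (Matrix.toLin'_apply _ _).symm, Matrix.toLin'_toMatrix']
    rfl
  have hAAu : ∀ g (u : ↥U), AA g *ᵥ φ (Additive.ofMul u) = φ (Additive.ofMul (cj g u)) := fun g u => by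
    rw [hAA, φ.symm_apply_apply, toMul_ofMul]
  have hAAeq : ∀ {P Q : Matrix (Fin (n + 1)) (Fin (n + 1)) (ZMod 2)}, (∀ u : ↥U, P *ᵥ φ (Additive.ofMul u) = Q *ᵥ φ (Additive.ofMul u)) → P = Q :=
    fun {P Q} h => Matrix.ext_of_mulVec_single fun i => by
      have := h (φ.symm (Pi.single i 1)).toMul
      rwa [ofMul_toMul, φ.apply_symm_apply] at this
  have hAAmul : ∀ g h, AA (g * h) = AA g * AA h := fun g h => hAAeq fun u => by
    rw [hAAu, ← Matrix.mulVec_mulVec, hAAu, hAAu]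
    congr 2
    exact Subtype.ext (by simp [cj, mul_assoc])
  have hAAU : ∀ g ∈ U, AA g = 1 := fun g hg => hAAeq fun u => by
    rw [hAAu, Matrix.one_mulVec]
    congr 2
    refine Subtype.ext ?_
    show g * u * g⁻¹ = u
    rw [show g * (u : G) = u * g from congrArg Subtype.val (hUc.is_comm.comm ⟨g, hg⟩ u), mul_inv_cancel_right]
  -- translation part
  have hdec : ∀ g : G, ∃ u : ↥U, (u : G)⁻¹ * g ∈ M := fun g => by
    have hg : g ∈ ((U ⊔ M : Subgroup G) : Set G) := by rw [hUM']; trivial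
    rw [Subgroup.normal_mul] at hg
    obtain ⟨u, hu, m, hm, rfl⟩ := hg
    exact ⟨⟨u, hu⟩, by simpa using hm⟩
  choose uu huu using hdec
  have huniq : ∀ {g : G} {u : ↥U}, (u : G)⁻¹ * g ∈ M → uu g = u := fun {g u} hu => by
    have h1 : (u : G)⁻¹ * uu g ∈ M := by
      have := mul_mem hu (inv_mem (huu g))
      simpa [mul_assoc] using this
    have h2 : (u : G)⁻¹ * uu g ∈ U ⊓ M := Subgroup.mem_inf.mpr ⟨U.mul_mem (U.inv_mem u.2) (uu g).2, h1⟩
    rw [hUM, Subgroup.mem_bot, inv_mul_eq_one] at h2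
    exact Subtype.ext h2.symm
  have hcoc : ∀ g h, uu (g * h) = uu g * cj g (uu h) := fun g h => huniq (by
    show ((uu g : G) * (g * uu h * g⁻¹))⁻¹ * (g * h) ∈ M
    have e : ((uu g : G) * (g * uu h * g⁻¹))⁻¹ * (g * h) = (g * (uu h : G)⁻¹ * g⁻¹) * ((uu g : G)⁻¹ * g) * h := by group
    rw [e]
    have hc : g * (uu h : G)⁻¹ * g⁻¹ * (uu g : G)⁻¹ = (uu g : G)⁻¹ * (g * (uu h : G)⁻¹ * g⁻¹) :=
      congrArg Subtype.val (hUc.is_comm.comm ⟨_, ‹U.Normal›.conj_mem _ (inv_mem (uu h).2) g⟩ ⟨_, inv_mem (uu g).2⟩)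
    rw [← mul_assoc _ (uu g : G)⁻¹ g, hc]
    have e2 : (uu g : G)⁻¹ * (g * (uu h : G)⁻¹ * g⁻¹) * g * h = ((uu g : G)⁻¹ * g) * ((uu h : G)⁻¹ * h) := by group
    rw [e2]
    exact mul_mem (huu g) (huu h))
  let vv : G → Fin (n + 1) → ZMod 2 := fun g => φ (Additive.ofMul (uu g))
  have hAA1 : AA 1 = 1 := hAAU 1 (one_mem U)
  have hvv1 : vv 1 = 0 := by
    show φ (Additive.ofMul (uu 1)) = 0
    rw [huniq (u := 1) (by simp), ofMul_one, map_zero]
  have hmul : ∀ g h, aff (AA g) (vv g) * aff (AA h) (vv h) = aff (AA (g * h)) (vv (g * h)) := fun g h => by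
    rw [aff_mul, hAAmul, show vv (g * h) = vv g + AA g *ᵥ vv h by
      show φ (Additive.ofMul (uu (g * h))) = φ (Additive.ofMul (uu g)) + AA g *ᵥ φ (Additive.ofMul (uu h))
      rw [hcoc, ofMul_mul, map_add, hAAu]]
  have hdet : ∀ g, (aff (AA g) (vv g)).det = 1 := fun g => det_eq_one (N := aff (AA g⁻¹) (vv g⁻¹)) (by
    rw [hmul, mul_inv_cancel, hAA1, hvv1, aff_one])
  let ψ : G →* Matrix.SpecialLinearGroup (Fin (n + 2)) (ZMod 2) :=
    { toFun := fun g => ⟨aff (AA g) (vv g), hdet g⟩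
      map_one' := Subtype.ext (by show aff (AA 1) (vv 1) = 1; rw [hAA1, hvv1, aff_one])
      map_mul' := fun g h => Subtype.ext (hmul g h).symm }
  have hψ : ∀ g, (ψ g : Matrix (Fin (n + 2)) (Fin (n + 2)) (ZMod 2)) = aff (AA g) (vv g) := fun g => rfl
  have hMv : ∀ m ∈ M, uu m = 1 := fun m hm => huniq (by simpa using hm)
  have hzψ : (ψ z : Matrix (Fin (n + 2)) (Fin (n + 2)) (ZMod 2)) = Matrix.transvection 0 1 1 := by
    rw [hψ, hAAU z hz, show vv z = Pi.single 0 1 by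
      show φ (Additive.ofMul (uu z)) = _
      rw [huniq (u := ⟨z, hz⟩) (by simp)]
      exact hφ, aff_transvection]
  refine ⟨ψ, (injective_iff_map_eq_one ψ).mpr fun g hg => ?_, hzψ, fun N hN => ?_⟩
  · have e : aff (AA g) (vv g) = aff 1 0 := by
      rw [aff_one, ← hψ, hg]; rfl
    obtain ⟨e1, e2⟩ := aff_inj e
    have hg1 : uu g = 1 := Additive.ofMul.injective (φ.injective (e2.trans (map_zero φ).symm))
    have hgM : g ∈ M := by simpa [hg1] using huu g
    refine hfaith g hgM fun u hu => ?_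
    have := hAAu g ⟨u, hu⟩
    rw [e1, Matrix.one_mulVec] at this
    exact (congrArg Subtype.val (Additive.ofMul.injective (φ.injective this))).symm
  · have h : (N : Matrix (Fin (n + 2)) (Fin (n + 2)) (ZMod 2)) * Matrix.transvection (0 : Fin (n + 2)) 1 1 =
        Matrix.transvection (0 : Fin (n + 2)) 1 1 * (N : Matrix (Fin (n + 2)) (Fin (n + 2)) (ZMod 2)) := by
      rw [← hzψ]
      exact congrArg Subtype.val hN
    have hrow : ∀ j : Fin (n + 2), j ≠ 1 → (N : Matrix (Fin (n + 2)) (Fin (n + 2)) (ZMod 2)) 1 j = 0 := fun j hj => by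
      have := congrFun (congrFun h 0) j
      rw [Matrix.transvection_mul_apply_same, Matrix.mul_transvection_apply_of_ne (hb := hj), one_mul] at this
      simpa using this.symm
    have h11 : (N : Matrix (Fin (n + 2)) (Fin (n + 2)) (ZMod 2)) 1 1 = 1 := by
      refine (zero_one _).resolve_left fun e => ?_
      have hd := N.2
      rw [Matrix.det_eq_zero_of_row_eq_zero (1 : Fin (n + 2)) (fun j => by
        by_cases hj : j = 1
        · rw [hj, e]
        · exact hrow j hj)] at hd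
      exact zero_ne_one hd
    have hN' := eq_aff h11 fun j => hrow _ (Fin.succAbove_ne _ _)
    set A := (Matrix.of fun i j => (N : Matrix (Fin (n + 2)) (Fin (n + 2)) (ZMod 2)) (Fin.succAbove 1 i) (Fin.succAbove 1 j)) with hA
    set v := (fun i => (N : Matrix (Fin (n + 2)) (Fin (n + 2)) (ZMod 2)) (Fin.succAbove 1 i) 1) with hv
    clear_value A v
    have hinj : Function.Injective (fun x => A *ᵥ x) := by
      intro x y e
      have hd : (aff A 0).det = 1 ∧ IsUnit A := by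
        have hAd : A.det = 1 := by
          have hd := N.2
          rw [hN', Matrix.det_succ_row _ (1 : Fin (n + 2)), Finset.sum_eq_single (1 : Fin (n + 2))] at hd
          · simp [Matrix.submatrix, aff, Fin.insertNth_apply_succAbove, char_two, ← mul_pow] at hd; exact hd
          · intro j _ hj
            obtain ⟨k, rfl⟩ := Fin.exists_succAbove_eq hj
            simp
          · simp
        have hu : IsUnit A := (Matrix.isUnit_iff_isUnit_det A).mpr (by rw [hAd]; exact isUnit_one)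
        obtain ⟨B, hB⟩ := hu.exists_right_inv
        exact ⟨det_eq_one (N := aff B 0) (by rw [aff_mul, hB, Matrix.mulVec_zero, add_zero, aff_one]), hu⟩
      obtain ⟨B, hB⟩ := hd.2.exists_left_inv
      have := congrArg (fun t => B *ᵥ t) e
      simpa [Matrix.mulVec_mulVec, hB] using this
    let fU : ↥U → ↥U := fun u => (φ.symm (A *ᵥ φ (Additive.ofMul u))).toMul
    have hfU : Function.Bijective fU := by
      refine Finite.injective_iff_bijective.mp fun u u' e => ?_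
      exact Additive.ofMul.injective (φ.injective (hinj (φ.symm.injective (Additive.toMul.injective e))))
    obtain ⟨m, hmM, hm⟩ := hfull (MulEquiv.ofBijective (MonoidHom.mk' fU fun u u' => by
      simp [fU, ofMul_mul, Matrix.mulVec_add, toMul_add]) hfU)
    have hAm : AA m = A := hAAeq fun u => by
      rw [hAAu, show cj m u = fU u from Subtype.ext (hm u).symm]
      show φ (Additive.ofMul (φ.symm (A *ᵥ φ (Additive.ofMul u))).toMul) = _
      rw [ofMul_toMul, φ.apply_symm_apply]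
    let u : ↥U := (φ.symm v).toMul
    refine ⟨(u : G) * m, Subtype.ext ?_⟩
    rw [hψ, hN', hAAmul, hAAU _ u.2, one_mul, hAm,
      show vv ((u : G) * m) = v by
        show φ (Additive.ofMul (uu _)) = v
        rw [huniq (u := u) (by simpa using hmM)]
        exact φ.apply_symm_apply v]

/-- The data of `C_G(z)` in the holomorph. -/
theorem holo_data (hn : 1 ≤ n) (U M : Subgroup G) [U.Normal] (hU : Cfsg.IsElementaryAbelian 2 U) (hUcard : Nat.card ↥U = 2 ^ (n + 1))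
    (hUM : U ⊓ M = ⊥) (hUM' : U ⊔ M = ⊤) (hfaith : ∀ m ∈ M, (∀ u ∈ U, m * u * m⁻¹ = u) → m = 1)
    (hfull : ∀ φ : ↥U ≃* ↥U, ∃ m ∈ M, ∀ u : ↥U, ((φ u : ↥U) : G) = m * u * m⁻¹) {z : G} (hzU : z ∈ U) (hz1 : z ≠ 1)
    (hzC : z ∈ Subgroup.centralizer ({z} : Set G)) : Data ↥(Subgroup.centralizer ({z} : Set G)) ⟨z, hzC⟩ n := by
  classical
  obtain ⟨ψ, hinj, hψz, hsur⟩ := affine_rep U M hU hUcard hUM hUM' hfaith hfull hzU hz1
  have hwC : ψ z ∈ Subgroup.centralizer ({ψ z} : Set (Matrix.SpecialLinearGroup (Fin (n + 2)) (ZMod 2))) :=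
    Subgroup.mem_centralizer_singleton_iff.mpr rfl
  obtain ⟨hD, -⟩ := model (ψ z) hψz hn hwC
  have hmem : ∀ g : G, g ∈ Subgroup.centralizer ({z} : Set G) ↔
      ψ g ∈ Subgroup.centralizer ({ψ z} : Set (Matrix.SpecialLinearGroup (Fin (n + 2)) (ZMod 2))) := fun g => by
    rw [Subgroup.mem_centralizer_singleton_iff, Subgroup.mem_centralizer_singleton_iff, ← map_mul, ← map_mul]
    exact ⟨fun e => congrArg ψ e, fun e => hinj e⟩
  let e : ↥(Subgroup.centralizer ({z} : Set G)) ≃* ↥(Subgroup.centralizer ({ψ z} : Set (Matrix.SpecialLinearGroup (Fin (n + 2)) (ZMod 2)))) :=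
    MulEquiv.ofBijective (MonoidHom.mk' (fun g => ⟨ψ g, (hmem g).mp g.2⟩) fun g h => Subtype.ext (map_mul ψ _ _))
      ⟨fun g h e' => Subtype.ext (hinj (congrArg Subtype.val e')), fun N => by
        obtain ⟨g, hg⟩ := hsur N (Subgroup.mem_centralizer_singleton_iff.mp N.2)
        exact ⟨⟨g, (hmem g).mpr (hg ▸ N.2)⟩, Subtype.ext hg⟩⟩
  exact hD.transport e (Subtype.ext rfl)

/-- `C_G(Z)` in the holomorph. -/
theorem holo_result (hn : 1 ≤ n) (U M : Subgroup G) [U.Normal] (hU : Cfsg.IsElementaryAbelian 2 U) (hUcard : Nat.card ↥U = 2 ^ (n + 1))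
    (hUM : U ⊓ M = ⊥) (hUM' : U ⊔ M = ⊤) (hfaith : ∀ m ∈ M, (∀ u ∈ U, m * u * m⁻¹ = u) → m = 1)
    (hfull : ∀ φ : ↥U ≃* ↥U, ∃ m ∈ M, ∀ u : ↥U, ((φ u : ↥U) : G) = m * u * m⁻¹) (Z : Subgroup G) (hZU : Z ≤ U)
    (hZ : Nat.card ↥Z = 2) {C : Subgroup G} (hC : C = Subgroup.centralizer (Z : Set G)) (Q : Subgroup G)
    (hQ : Q = (Cfsg.pCore 2 ↥C).map C.subtype) :
    Cfsg.IsExtraspecial 2 ↥Q ∧ Nat.card ↥Q = 2 ^ (2 * n + 1) ∧
      (∃ E : Subgroup G, E ≤ Q ∧ Cfsg.IsElementaryAbelian 2 E ∧ Nat.card ↥E = 2 ^ (n + 1)) ∧ Cfsg.IsLargeExtraspecial Q ∧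
      ∃ K : Subgroup G, K ≤ C ∧ Q ⊓ K = ⊥ ∧ Q ⊔ K = C ∧ Nonempty (↥K ≃* Matrix.GeneralLinearGroup (Fin n) (ZMod 2)) := by
  classical
  obtain ⟨z', hz'1, hz'⟩ : ∃ z' : Z, z' ≠ 1 ∧ ∀ y : Z, y = 1 ∨ y = z' := by
    obtain ⟨a, b, hab, hu⟩ := Nat.card_eq_two_iff.mp hZ
    have h' : ∀ y : Z, y = a ∨ y = b := fun y => by simpa using (Set.eq_univ_iff_forall.mp hu y)
    rcases h' 1 with e | e
    · exact ⟨b, fun h => hab (e.symm.trans h.symm), fun y => e ▸ h' y⟩
    · exact ⟨a, fun h => hab (h.trans e), fun y => e ▸ (h' y).symm⟩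
  set z : G := (z' : G) with hzdef
  have hz1 : z ≠ 1 := fun e => hz'1 (Subtype.ext e)
  have hzU : z ∈ U := hZU z'.2
  have hCz : C = Subgroup.centralizer ({z} : Set G) := by
    rw [hC]
    ext g
    rw [Subgroup.mem_centralizer_singleton_iff, Subgroup.mem_centralizer_iff]
    refine ⟨fun h => (h z z'.2).symm, fun h y hy => ?_⟩
    rcases hz' ⟨y, hy⟩ with e | e
    · rw [show y = 1 from congrArg Subtype.val e]; simp
    · rw [show y = z from congrArg Subtype.val e]; exact h.symm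
  subst hCz
  have hzC : z ∈ Subgroup.centralizer ({z} : Set G) := Subgroup.mem_centralizer_singleton_iff.mpr rfl
  have hD' : Data ↥(Subgroup.centralizer ({z} : Set G)) ⟨z, hzC⟩ n :=
    holo_data hn U M hU hUcard hUM hUM' hfaith hfull hzU hz1 hzC
  obtain ⟨hES, ⟨a, ha, b, hb, hne⟩, hE, hcard, hEl, K, hK⟩ := conclude rfl hzC hD' Q hQ
  refine ⟨hE, hcard, hEl, ?_, K, hK⟩
  have hmem' : ∀ y, y ∈ (Subgroup.center Q).map Q.subtype ↔ y = 1 ∨ y = z := by
    intro y
    constructor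
    · rintro ⟨c, hc, rfl⟩
      rcases (hES.toExt.center_iff c).mp hc with rfl | rfl
      · exact Or.inl rfl
      · exact Or.inr rfl
    · rintro (rfl | rfl)
      · exact one_mem _
      · exact ⟨⟨_, hES.mem⟩, (hES.toExt.center_iff _).mpr (Or.inr rfl), rfl⟩
  refine CfsgThreeTrans.large_of_core Q hE ?_ ?_ ?_
  · refine le_antisymm (fun c hc => (hmem' c).mpr (hES.cen c fun q hq => (Subgroup.mem_centralizer_iff.mp hc q hq).symm))
      (fun c hc => Subgroup.mem_centralizer_iff.mpr fun q hq => ?_)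
    rcases (hmem' c).mp hc with rfl | rfl
    · simp
    · exact hES.comm q hq
  · intro c hc
    have hcz : c * z = z * c := (Subgroup.mem_centralizer_iff.mp hc z ((hmem' z).mpr (Or.inr rfl))).symm
    refine Subgroup.mem_normalizer_iff.mpr fun q => ⟨hES.nor c hcz q, fun hq => ?_⟩
    have := hES.nor c⁻¹ (by rw [eq_mul_inv_iff_mul_eq, mul_assoc, ← hcz, ← mul_assoc, inv_mul_cancel, one_mul]) _ hq
    simpa [mul_assoc] using this
  · intro y hy
    rcases (hmem' y).mp hy with rfl | rfl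
    · exact one_mem _
    · refine CfsgLib.le_pCore (N := U) (fun u => ⟨1, Subtype.ext ?_⟩) hzU
      rw [pow_one]
      exact hU.2 u u.2

end CfsgParab
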