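/-
`Aut(E₂ⁿ⁺¹)` is not larger than `GL_{n+1}(2)`.
-/
import Cfsg.Agent.Lib.Parab.Holomorph

set_option autoImplicit false
set_option linter.style.haveILetI false

namespace CfsgParab

open Cfsg Matrix

theorem card_mulAut_le {G : Type*} [Group G] [Finite G] {n : ℕ} {U : Subgroup G} (hU : Cfsg.IsElementaryAbelian 2 U)
    (hUcard : Nat.card ↥U = 2 ^ (n + 1)) {z : G} (hz : z ∈ U) (hz1 : z ≠ 1) :
    Nat.card (↥U ≃* ↥U) ≤ Nat.card (Matrix.GeneralLinearGroup (Fin (n + 1)) (ZMod 2)) := by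
  classical
  obtain ⟨hUc, hU2⟩ := hU
  letI : CommGroup ↥U := { (inferInstance : Group ↥U) with mul_comm := hUc.is_comm.comm }
  have h2 : ∀ v : Additive ↥U, 2 • v = 0 := fun v => by
    show Additive.ofMul (v.toMul ^ 2) = 0
    exact (congrArg Additive.ofMul (Subtype.ext (hU2 _ v.toMul.2) : v.toMul ^ 2 = 1)).trans ofMul_one
  obtain ⟨φ, -⟩ := card_linear (n := n) h2 (by rw [Nat.card_congr Additive.toMul]; exact hUcard)
    (v0 := Additive.ofMul (⟨z, hz⟩ : ↥U)) (fun e => hz1 (congrArg Subtype.val (Additive.ofMul.injective e : (⟨z, hz⟩ : ↥U) = 1)))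
  let L : (↥U ≃* ↥U) → (Fin (n + 1) → ZMod 2) →+ (Fin (n + 1) → ZMod 2) := fun a =>
    AddMonoidHom.mk' (fun x => φ (Additive.ofMul (a (φ.symm x).toMul))) fun x y => by
      rw [← map_add, ← ofMul_mul]
      congr 2
      rw [map_add, toMul_add, map_mul]
  let MM : (↥U ≃* ↥U) → Matrix (Fin (n + 1)) (Fin (n + 1)) (ZMod 2) := fun a => LinearMap.toMatrix' ((L a).toZModLinearMap 2)
  have hMM : ∀ a x, MM a *ᵥ x = φ (Additive.ofMul (a (φ.symm x).toMul)) := fun a x => by
    rw [show MM a *ᵥ x = Matrix.toLin' (MM a) x from (Matrix.toLin'_apply _ _).symm, Matrix.toLin'_toMatrix']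
    rfl
  have hinv : ∀ a, MM a * MM a.symm = 1 := fun a => Matrix.ext_of_mulVec_single fun i => by
    rw [← Matrix.mulVec_mulVec, hMM, hMM, φ.symm_apply_apply, toMul_ofMul, a.apply_symm_apply, ofMul_toMul, φ.apply_symm_apply,
      Matrix.one_mulVec]
  refine Nat.card_le_card_of_injective (fun a => (⟨MM a, MM a.symm, hinv a, by simpa using hinv a.symm⟩ :
    Matrix.GeneralLinearGroup (Fin (n + 1)) (ZMod 2))) fun a b e => MulEquiv.ext fun u => ?_
  have h := congrArg (fun T : Matrix.GeneralLinearGroup (Fin (n + 1)) (ZMod 2) =>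
    (T : Matrix (Fin (n + 1)) (Fin (n + 1)) (ZMod 2)) *ᵥ φ (Additive.ofMul u)) e
  simp only [hMM, φ.symm_apply_apply, toMul_ofMul] at h
  exact Additive.ofMul.injective (φ.injective h)

/-- Automorphisms are transitive on nontrivial elements. -/
theorem swap_in {G : Type*} [Group G] [Finite G] {n : ℕ} (U : Subgroup G) (hU : Cfsg.IsElementaryAbelian 2 U)
    (hUcard : Nat.card ↥U = 2 ^ (n + 1)) (a b : ↥U) (ha : a ≠ 1) (hb : b ≠ 1) : ∃ φ : ↥U ≃* ↥U, φ a = b := by
  classical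
  obtain ⟨hUc, hU2⟩ := hU
  letI : CommGroup ↥U := { (inferInstance : Group ↥U) with mul_comm := hUc.is_comm.comm }
  have h2 : ∀ v : Additive ↥U, 2 • v = 0 := fun v => by
    show Additive.ofMul (v.toMul ^ 2) = 0
    exact (congrArg Additive.ofMul (Subtype.ext (hU2 _ v.toMul.2) : v.toMul ^ 2 = 1)).trans ofMul_one
  have hc : Nat.card (Additive ↥U) = 2 ^ (n + 1) := by rw [Nat.card_congr Additive.toMul]; exact hUcard
  obtain ⟨φa, hφa⟩ := card_linear (n := n) h2 hc (v0 := Additive.ofMul a) (fun e => ha (Additive.ofMul.injective e))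
  obtain ⟨φb, hφb⟩ := card_linear (n := n) h2 hc (v0 := Additive.ofMul b) (fun e => hb (Additive.ofMul.injective e))
  refine ⟨AddEquiv.toMultiplicative.symm.symm (φa.trans φb.symm), ?_⟩
  apply Additive.ofMul.injective
  apply φb.injective
  show φb (φb.symm (φa (Additive.ofMul a))) = _
  rw [φb.apply_symm_apply, hφa, hφb]

theorem card_gl_four : Nat.card (Matrix.GeneralLinearGroup (Fin 4) (ZMod 2)) = 20160 := by
  haveI : Fact (Nat.Prime 2) := ⟨Nat.prime_two⟩
  rw [Matrix.card_GL_field]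
  simp [Fin.prod_univ_four, ZMod.card]

end CfsgParab
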